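import Mathlib
import Groth.Prelude.Def_GrSeg

/-! ℤ-graded modules over a graded algebra over a field: projections, finiteness of pieces, lifts into graded duals. -/

set_option autoImplicit false

universe u

namespace Groth.GrDualH

open DirectSum

variable {k : Type u} [Field k] {R : Type u} [CommRing R] [Algebra k R] {𝒜 : ℤ → Submodule k R} [GradedAlgebra 𝒜]
  {M : Type u} [AddCommGroup M] [Module R M] [Module k M] [IsScalarTower k R M]
  {τ : Type u} [SetLike τ M] [AddSubgroupClass τ M] {ℳ : ℤ → τ} [DirectSum.Decomposition ℳ]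

variable (ℳ) in
/-- Projection to the piece of degree `g`. -/
def proj (g : ℤ) : M →+ M where
  toFun x := (decompose ℳ x g : M)
  map_zero' := by simp
  map_add' x y := by simp

theorem proj_mem (g : ℤ) (x : M) : proj ℳ g x ∈ ℳ g := (decompose ℳ x g).2

theorem proj_of_mem {g : ℤ} {x : M} (hx : x ∈ ℳ g) : proj ℳ g x = x := decompose_of_mem_same ℳ hx

theorem proj_of_mem_ne {g h : ℤ} {x : M} (hx : x ∈ ℳ g) (hne : g ≠ h) : proj ℳ h x = 0 :=
  decompose_of_mem_ne ℳ hx hne

theorem exists_sum_proj (x : M) : ∃ s : Finset ℤ, x = ∑ g ∈ s, proj ℳ g x := by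
  classical
  exact ⟨(decompose ℳ x).support, (DirectSum.sum_support_decompose ℳ x).symm⟩

theorem eq_zero_of_proj {x : M} (h : ∀ g, proj ℳ g x = 0) : x = 0 := by
  obtain ⟨s, hs⟩ := exists_sum_proj (ℳ := ℳ) x
  rw [hs]; exact Finset.sum_eq_zero fun g _ => h g

variable [SetLike.GradedSMul 𝒜 ℳ]

include 𝒜

omit [Module k M] [IsScalarTower k R M] [Decomposition ℳ] [AddSubgroupClass τ M] in
theorem smul_mem {i g : ℤ} {r : R} {x : M} (hr : r ∈ 𝒜 i) (hx : x ∈ ℳ g) : r • x ∈ ℳ (i + g) :=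
  SetLike.GradedSMul.smul_mem (A := 𝒜) (B := ℳ) hr hx

omit [Decomposition ℳ] [AddSubgroupClass τ M] in
theorem ksmul_mem {g : ℤ} (c : k) {x : M} (hx : x ∈ ℳ g) : c • x ∈ ℳ g := by
  have := smul_mem (𝒜 := 𝒜) (ℳ := ℳ) (SetLike.algebraMap_mem_graded 𝒜 c) hx
  rwa [zero_add, algebraMap_smul] at this

theorem proj_ksmul (g : ℤ) (c : k) (x : M) : proj ℳ g (c • x) = c • proj ℳ g x := by
  induction x using DirectSum.Decomposition.inductionOn ℳ with
  | zero => simp
  | @homogeneous i m =>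
    by_cases h : i = g
    · subst h; rw [proj_of_mem (ksmul_mem (𝒜 := 𝒜) c m.2), proj_of_mem m.2]
    · rw [proj_of_mem_ne (ksmul_mem (𝒜 := 𝒜) c m.2) h, proj_of_mem_ne m.2 h, smul_zero]
  | add a b ha hb => rw [smul_add, map_add, map_add, ha, hb, smul_add]

theorem proj_smul {i : ℤ} {r : R} (hr : r ∈ 𝒜 i) (g : ℤ) (x : M) :
    proj ℳ g (r • x) = r • proj ℳ (g - i) x := by
  induction x using DirectSum.Decomposition.inductionOn ℳ with
  | zero => simp
  | @homogeneous j m =>
    by_cases h : j = g - i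
    · subst h
      rw [proj_of_mem m.2, proj_of_mem]
      have := smul_mem (ℳ := ℳ) hr m.2
      rwa [add_sub_cancel] at this
    · rw [proj_of_mem_ne m.2 h, smul_zero, proj_of_mem_ne (smul_mem hr m.2) (by omega)]
  | add a b ha hb => rw [smul_add, map_add, map_add, ha, hb, smul_add]

/-- Projection to a piece, as a linear map. -/
def projₗ (𝒜 : ℤ → Submodule k R) [GradedAlgebra 𝒜] (ℳ : ℤ → τ) [DirectSum.Decomposition ℳ]
    [SetLike.GradedSMul 𝒜 ℳ] (g : ℤ) : M →ₗ[k] M where
  toFun := proj ℳ g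
  map_add' := map_add _
  map_smul' c x := proj_ksmul (𝒜 := 𝒜) g c x

/-- The piece of degree `g` as a subspace. -/
def piece (𝒜 : ℤ → Submodule k R) [GradedAlgebra 𝒜] (ℳ : ℤ → τ) [DirectSum.Decomposition ℳ]
    [SetLike.GradedSMul 𝒜 ℳ] (g : ℤ) : Submodule k M where
  carrier := (ℳ g : Set M)
  add_mem' ha hb := add_mem ha hb
  zero_mem' := zero_mem _
  smul_mem' c _ hx := ksmul_mem (𝒜 := 𝒜) c hx

/-- Submodule of elements all of whose components lie in `N`. -/
def coreHom (𝒜 : ℤ → Submodule k R) [GradedAlgebra 𝒜] (ℳ : ℤ → τ) [DirectSum.Decomposition ℳ]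
    [SetLike.GradedSMul 𝒜 ℳ] (N : Submodule R M) : Submodule R M where
  carrier := {x | ∀ g, proj ℳ g x ∈ N}
  add_mem' ha hb g := by rw [map_add]; exact N.add_mem (ha g) (hb g)
  zero_mem' g := by rw [map_zero]; exact N.zero_mem
  smul_mem' r x hx := by
    induction r using DirectSum.Decomposition.inductionOn 𝒜 with
    | zero => intro g; simp
    | @homogeneous i a => intro g; rw [proj_smul a.2]; exact N.smul_mem _ (hx _)
    | add a b ha hb => intro g; rw [add_smul, map_add]; exact N.add_mem (ha g) (hb g)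

theorem isHomogeneous_span (s : Set M) (hs : ∀ x ∈ s, ∃ g, x ∈ ℳ g) :
    (Submodule.span R s).IsHomogeneous ℳ := by
  intro g x hx
  suffices Submodule.span R s ≤ coreHom 𝒜 ℳ (Submodule.span R s) from this hx g
  refine Submodule.span_le.2 fun y hy h => ?_
  obtain ⟨g', hg'⟩ := hs y hy
  by_cases he : g' = h
  · subst he; rw [proj_of_mem hg']; exact Submodule.subset_span hy
  · rw [proj_of_mem_ne hg' he]; exact zero_mem _

section Positive

variable (hpos : ∀ n : ℤ, n < 0 → 𝒜 n = ⊥) (h0 : 𝒜 0 = Submodule.span k {(1 : R)})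

/-- The submodule of elements of degree at least `c`. -/
def geq (𝒜 : ℤ → Submodule k R) [GradedAlgebra 𝒜] (ℳ : ℤ → τ) [DirectSum.Decomposition ℳ]
    [SetLike.GradedSMul 𝒜 ℳ] (hpos : ∀ n : ℤ, n < 0 → 𝒜 n = ⊥) (c : ℤ) : Submodule R M where
  carrier := {x | ∀ g < c, proj ℳ g x = 0}
  add_mem' ha hb g hg := by rw [map_add, ha g hg, hb g hg, add_zero]
  zero_mem' g _ := map_zero _
  smul_mem' r x hx := by
    induction r using DirectSum.Decomposition.inductionOn 𝒜 with
    | zero => intro g _; simp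
    | @homogeneous i a =>
      intro g hg
      rw [proj_smul a.2]
      by_cases hi : i < 0
      · have : (a : R) = 0 := by simpa [hpos i hi] using a.2
        rw [this, zero_smul]
      · rw [hx (g - i) (by omega), smul_zero]
    | add a b ha hb => intro g hg; rw [add_smul, map_add, ha g hg, hb g hg, add_zero]

include hpos in
theorem exists_lowerBound [IsNoetherian R M] : ∃ c : ℤ, ∀ g < c, ∀ x ∈ ℳ g, x = 0 := by
  obtain ⟨n, hn⟩ := monotone_stabilizes_iff_noetherian.2 (inferInstance : IsNoetherian R M)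
    ⟨fun n => geq 𝒜 ℳ hpos (-(n : ℤ)), fun a b hab x hx g hg => hx g (by omega)⟩
  refine ⟨-(n : ℤ), fun g hg x hx => ?_⟩
  have h1 : x ∈ geq 𝒜 ℳ hpos (-((max n (-g).toNat : ℕ) : ℤ)) := fun h hh => proj_of_mem_ne hx (by omega)
  rw [show geq 𝒜 ℳ hpos (-((max n (-g).toNat : ℕ) : ℤ)) = geq 𝒜 ℳ hpos (-(n : ℤ)) from
    (hn _ (le_max_left _ _)).symm] at h1
  rw [← proj_of_mem hx]; exact h1 g hg

include hpos in
theorem exists_upperBound [IsArtinian R M] : ∃ c : ℤ, ∀ g > c, ∀ x ∈ ℳ g, x = 0 := by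
  obtain ⟨n, hn⟩ := IsArtinian.monotone_stabilizes (R := R) (M := M)
    ⟨fun n => OrderDual.toDual (geq 𝒜 ℳ hpos (n : ℤ)), fun a b hab x hx g hg => hx g (by omega)⟩
  refine ⟨(n : ℤ), fun g hg x hx => ?_⟩
  have h1 : x ∈ geq 𝒜 ℳ hpos (n : ℤ) := fun h hh => proj_of_mem_ne hx (by omega)
  rw [show geq 𝒜 ℳ hpos (n : ℤ) = geq 𝒜 ℳ hpos ((max n (g + 1).toNat : ℕ) : ℤ) from hn _ (le_max_left _ _)] at h1
  rw [← proj_of_mem hx]; exact h1 g (by omega)

include h0 in
theorem piece_span_strictMono (g : ℤ) :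
    StrictMono fun V : Submodule k (piece 𝒜 ℳ g) => Submodule.span R ((fun v : piece 𝒜 ℳ g => (v : M)) '' V) := by
  intro V W hVW
  refine lt_of_le_not_ge (Submodule.span_mono (Set.image_mono hVW.le)) fun hle => ?_
  obtain ⟨w, hwW, hwV⟩ := SetLike.exists_of_lt hVW
  have hw : (w : M) ∈ Submodule.span R ((fun v : piece 𝒜 ℳ g => (v : M)) '' V) :=
    hle (Submodule.subset_span ⟨w, hwW, rfl⟩)
  have key : ∀ y ∈ Submodule.span R ((fun v : piece 𝒜 ℳ g => (v : M)) '' V), ∀ r : R,
      proj ℳ g (r • y) ∈ Submodule.map (piece 𝒜 ℳ g).subtype V := by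
    intro y hy
    induction hy using Submodule.span_induction with
    | mem y hy =>
      obtain ⟨v, hv, rfl⟩ := hy
      intro r
      induction r using DirectSum.Decomposition.inductionOn 𝒜 with
      | zero => simp
      | @homogeneous i a =>
        rw [proj_smul a.2]
        by_cases hi : i = 0
        · subst hi
          rw [sub_zero, proj_of_mem (ℳ := ℳ) v.2]
          have ha := a.2
          simp only [h0] at ha
          obtain ⟨c, hc⟩ := Submodule.mem_span_singleton.1 ha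
          rw [← hc, smul_assoc, one_smul]
          exact Submodule.smul_mem _ c ⟨v, hv, rfl⟩
        · rw [proj_of_mem_ne (ℳ := ℳ) v.2 (by omega), smul_zero]; exact zero_mem _
      | add a b ha hb => rw [add_smul, map_add]; exact add_mem ha hb
    | zero => intro r; simp
    | add a b _ _ ha hb => intro r; rw [smul_add, map_add]; exact add_mem (ha r) (hb r)
    | smul s a _ ha => intro r; rw [smul_smul]; exact ha _
  have := key _ hw 1
  rw [one_smul, proj_of_mem (ℳ := ℳ) w.2] at this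
  obtain ⟨v, hv, hvw⟩ := this
  exact hwV (Subtype.ext hvw ▸ hv)

include h0 in
theorem finiteDimensional_piece (h : IsNoetherian R M ∨ IsArtinian R M) (g : ℤ) :
    FiniteDimensional k (piece 𝒜 ℳ g) := by
  rcases h with h | h
  · haveI : IsNoetherian k (piece 𝒜 ℳ g) := isNoetherian_iff'.2 (piece_span_strictMono h0 g).wellFoundedGT
    infer_instance
  · haveI : IsArtinian k (piece 𝒜 ℳ g) := (piece_span_strictMono h0 g).wellFoundedLT
    exact IsSemiprimaryRing.finite_of_isArtinian k k (piece 𝒜 ℳ g)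

end Positive

omit 𝒜 [GradedAlgebra 𝒜] [SetLike.GradedSMul 𝒜 ℳ]

section Dual

variable {D : Type u} [AddCommGroup D] [Module R D] [Module k D] [IsScalarTower k R D]
  {τ' : Type u} [SetLike τ' D] [AddSubgroupClass τ' D] {𝒟 : ℤ → τ'} [DirectSum.Decomposition 𝒟]
  {β : D →ₗ[k] M →ₗ[k] k}

theorem pair_proj_right (hD : GrSeg.IsGDual R ℳ 𝒟 β) {n : ℤ} {d : D} (hd : d ∈ 𝒟 n) (x : M) :
    β d x = β d (proj ℳ (-n) x) := by
  induction x using DirectSum.Decomposition.inductionOn ℳ with
  | zero => simp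
  | @homogeneous i m =>
    by_cases h : i = -n
    · subst h; rw [proj_of_mem m.2]
    · rw [proj_of_mem_ne m.2 h, hD.vanish n d hd i h m m.2, map_zero]
  | add a b ha hb => rw [map_add, map_add, map_add, ha, hb]

theorem pair_proj (hD : GrSeg.IsGDual R ℳ 𝒟 β) (n : ℤ) (d : D) (x : M) :
    β (proj 𝒟 n d) x = β d (proj ℳ (-n) x) := by
  induction d using DirectSum.Decomposition.inductionOn 𝒟 with
  | zero => simp
  | @homogeneous i e =>
    by_cases h : i = n
    · subst h; rw [proj_of_mem e.2, ← pair_proj_right hD e.2]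
    · rw [proj_of_mem_ne e.2 h, map_zero, LinearMap.zero_apply,
        hD.vanish i e e.2 (-n) (by omega) _ (proj_mem _ _)]
  | add a b ha hb => rw [map_add, map_add, map_add, LinearMap.add_apply, LinearMap.add_apply, ha, hb]

theorem beta_injective (hD : GrSeg.IsGDual R ℳ 𝒟 β) : Function.Injective β := by
  rw [injective_iff_map_eq_zero]
  intro d hd
  exact eq_zero_of_proj fun n => hD.eq_zero n _ (proj_mem n d) fun x _ => by simp [pair_proj hD, hd]

theorem exists_repr (hD : GrSeg.IsGDual R ℳ 𝒟 β) (n : ℤ) (φ : M →ₗ[k] k)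
    (hφ : ∀ m, m ≠ -n → ∀ x ∈ ℳ m, φ x = 0) : ∃ d ∈ 𝒟 n, β d = φ := by
  obtain ⟨d, hd, h⟩ := hD.exists_eq n φ
  refine ⟨d, hd, LinearMap.ext fun x => ?_⟩
  induction x using DirectSum.Decomposition.inductionOn ℳ with
  | zero => simp
  | @homogeneous i m =>
    by_cases hi : i = -n
    · subst hi; exact h m m.2
    · rw [hD.vanish n d hd i hi m m.2, hφ i hi m m.2]
  | add a b ha hb => rw [map_add, map_add, ha, hb]

/-- A pairing which is balanced and homogeneous defines a unique linear map into the graded dual. -/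
theorem exists_lift (hD : GrSeg.IsGDual R ℳ 𝒟 β)
    {N : Type u} [AddCommGroup N] [Module R N] [Module k N]
    {τN : Type u} [SetLike τN N] [AddSubgroupClass τN N] {𝒩 : ℤ → τN} [DirectSum.Decomposition 𝒩]
    (a : ℤ) (ψ : N →ₗ[k] M →ₗ[k] k) (hlin : ∀ (r : R) x m, ψ (r • x) m = ψ x (r • m))
    (hoff : ∀ g, ∀ x ∈ 𝒩 g, ∀ m, m ≠ -(g + a) → ∀ y ∈ ℳ m, ψ x y = 0) :
    ∃ f : N →ₗ[R] D, (∀ x, β (f x) = ψ x) ∧ ∀ g, ∀ x ∈ 𝒩 g, f x ∈ 𝒟 (g + a) := by
  have hinj := beta_injective hD
  have hex : ∀ x, ∃ d, β d = ψ x := by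
    intro x
    induction x using DirectSum.Decomposition.inductionOn 𝒩 with
    | zero => exact ⟨0, by simp⟩
    | @homogeneous i m =>
      obtain ⟨d, -, hd⟩ := exists_repr hD (i + a) (ψ m) (hoff i m m.2)
      exact ⟨d, hd⟩
    | add u v hu hv =>
      obtain ⟨d, hd⟩ := hu; obtain ⟨e, he⟩ := hv
      exact ⟨d + e, by rw [map_add, map_add, hd, he]⟩
  choose f hf using hex
  refine ⟨{ toFun := f
            map_add' := fun x y => hinj (by rw [hf, map_add, map_add, hf, hf])
            map_smul' := fun r x => hinj (LinearMap.ext fun m => by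
              rw [RingHom.id_apply, hf, hD.map_smul, hf, hlin]) }, hf, fun g x hx => ?_⟩
  obtain ⟨d, hd, hd'⟩ := exists_repr hD (g + a) (ψ x) (hoff g x hx)
  show f x ∈ _
  rw [show f x = d from hinj (by rw [hf, hd'])]
  exact hd

end Dual

end Groth.GrDualH
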