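import Groth.Agent.GrDualH.Base

/-! Graded Matlis-type duality over a field: reflexivity, finite vs Artinian. -/

set_option autoImplicit false

universe u

namespace Groth.GrDualH

open DirectSum

variable {k : Type u} [Field k] {R : Type u} [CommRing R] [Algebra k R] {𝒜 : ℤ → Submodule k R} [GradedAlgebra 𝒜]
  {M : Type u} [AddCommGroup M] [Module R M] [Module k M] [IsScalarTower k R M]
  {τ : Type u} [SetLike τ M] [AddSubgroupClass τ M] {ℳ : ℤ → τ} [DirectSum.Decomposition ℳ]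
  [SetLike.GradedSMul 𝒜 ℳ]
  {D : Type u} [AddCommGroup D] [Module R D] [Module k D] [IsScalarTower k R D]
  {τ' : Type u} [SetLike τ' D] [AddSubgroupClass τ' D] {𝒟 : ℤ → τ'} [DirectSum.Decomposition 𝒟]
  [SetLike.GradedSMul 𝒜 𝒟] {β : D →ₗ[k] M →ₗ[k] k}

omit [Module R D] [IsScalarTower k R D] [SetLike τ' D] [AddSubgroupClass τ' D] in
include 𝒜 in
theorem exists_functional {g : ℤ} {x : M} (hx : x ∈ ℳ g) (hx0 : x ≠ 0) :
    ∃ φ : M →ₗ[k] k, (∀ m, m ≠ g → ∀ y ∈ ℳ m, φ y = 0) ∧ φ x = 1 := by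
  obtain ⟨φ₀, hφ₀⟩ : ∃ φ₀ : M →ₗ[k] k, φ₀ x ≠ 0 := by
    by_contra h
    exact hx0 ((Module.forall_dual_apply_eq_zero_iff k x).1 fun φ => by_contra fun hh => h ⟨φ, hh⟩)
  obtain ⟨φ, hφ⟩ : ∃ φ : M →ₗ[k] k, φ x = 1 := ⟨(φ₀ x)⁻¹ • φ₀, by simp [hφ₀]⟩
  refine ⟨φ ∘ₗ projₗ 𝒜 ℳ g, fun m hm y hy => ?_, ?_⟩
  · show φ (proj ℳ g y) = 0
    rw [proj_of_mem_ne hy hm, map_zero]
  · show φ (proj ℳ g x) = 1
    rw [proj_of_mem hx, hφ]

include 𝒜 in
theorem flip_eq_zero (hD : GrSeg.IsGDual R ℳ 𝒟 β) (n : ℤ) {x : M} (hx : x ∈ ℳ n)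
    (h : ∀ d ∈ 𝒟 (-n), β d x = 0) : x = 0 := by
  by_contra hx0
  obtain ⟨φ, hφ, hφx⟩ := exists_functional (𝒜 := 𝒜) (k := k) hx hx0
  obtain ⟨d, hd, hd'⟩ := exists_repr hD (-n) φ (fun m hm => hφ m (by simpa using hm))
  have := h d hd
  rw [hd', hφx] at this
  exact one_ne_zero this

include 𝒜 in
theorem flip_injective (hD : GrSeg.IsGDual R ℳ 𝒟 β) : Function.Injective β.flip := by
  rw [injective_iff_map_eq_zero]
  intro x hx
  refine eq_zero_of_proj fun n => flip_eq_zero (𝒜 := 𝒜) hD n (proj_mem n x) fun d hd => ?_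
  have h := pair_proj_right hD hd x
  rw [neg_neg] at h
  rw [← h]
  exact LinearMap.congr_fun hx d

include 𝒜 in
theorem isGDual_flip (hD : GrSeg.IsGDual R ℳ 𝒟 β) (hfd : ∀ n, FiniteDimensional k (piece 𝒜 ℳ n)) :
    GrSeg.IsGDual R 𝒟 ℳ β.flip where
  map_smul r x d := (hD.map_smul r d x).symm
  vanish n x hx m hm d hd := hD.vanish m d hd n (by omega) x hx
  eq_zero n x hx h := flip_eq_zero (𝒜 := 𝒜) hD n hx h
  exists_eq n g := by
    haveI := hfd n
    let L : piece 𝒜 𝒟 (-n) →ₗ[k] Module.Dual k (piece 𝒜 ℳ n) :=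
      LinearMap.mk₂ k (fun d x => β (d : D) (x : M)) (by simp) (by simp) (by simp) (by simp)
    have hL : Function.Bijective L := by
      refine ⟨?_, fun φ => ?_⟩
      · rw [injective_iff_map_eq_zero]
        rintro ⟨d, hd⟩ h
        refine Subtype.ext (hD.eq_zero (-n) d hd fun x hx => ?_)
        rw [neg_neg] at hx
        exact LinearMap.congr_fun h ⟨x, hx⟩
      · obtain ⟨φ', hφ'⟩ := φ.exists_extend
        obtain ⟨d, hd, hd'⟩ := hD.exists_eq (-n) φ'
        refine ⟨⟨d, hd⟩, LinearMap.ext fun x => ?_⟩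
        rw [← hφ']
        exact hd' x (by rw [neg_neg]; exact x.2)
    let e := LinearEquiv.ofBijective L hL
    obtain ⟨x, hx⟩ := (Module.evalEquiv k (piece 𝒜 ℳ n)).surjective
      ((g ∘ₗ (piece 𝒜 𝒟 (-n)).subtype) ∘ₗ e.symm.toLinearMap)
    refine ⟨x, x.2, fun d hd => ?_⟩
    have := LinearMap.congr_fun hx (L ⟨d, hd⟩)
    simp only [Module.evalEquiv_apply, Module.Dual.eval_apply, LinearMap.coe_comp, Function.comp_apply,
      LinearEquiv.coe_coe] at this
    rw [show e.symm (L ⟨d, hd⟩) = ⟨d, hd⟩ from e.symm_apply_apply _] at this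
    exact this

/-- The orthogonal of a submodule of the dual. -/
def perp (hD : GrSeg.IsGDual R ℳ 𝒟 β) (N : Submodule R D) : Submodule R M where
  carrier := {x | ∀ d ∈ N, β d x = 0}
  add_mem' ha hb d hd := by rw [map_add, ha d hd, hb d hd, add_zero]
  zero_mem' d _ := map_zero _
  smul_mem' r x hx d hd := by rw [← hD.map_smul]; exact hx _ (N.smul_mem r hd)

include 𝒜 in
theorem le_of_perp_le (hD : GrSeg.IsGDual R ℳ 𝒟 β) (hfl : GrSeg.IsGDual R 𝒟 ℳ β.flip)
    {N₁ N₂ : Submodule R D} (h2 : N₂.IsHomogeneous 𝒟) (h : perp hD N₂ ≤ perp hD N₁) : N₁ ≤ N₂ := by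
  intro d hd
  by_contra hd2
  obtain ⟨n, hn⟩ : ∃ n, proj 𝒟 n d ∉ N₂ := not_forall.1 fun hh => hd2 ((h2.mem_iff 𝒟).2 hh)
  obtain ⟨φ, hφd, hφN⟩ := Submodule.exists_dual_map_eq_bot_of_notMem
    (p := N₂.restrictScalars k) hn inferInstance
  obtain ⟨x, hx, hx'⟩ := hfl.exists_eq (-n) φ
  rw [neg_neg] at hx'
  have hkey : ∀ e, β e x = β (proj 𝒟 n e) x := fun e => by rw [pair_proj hD, proj_of_mem hx]
  have hmem : x ∈ perp hD N₂ := fun e he => by
    rw [hkey]
    exact (hx' _ (proj_mem n e)).trans ((Submodule.mem_bot k).1 (hφN ▸ Submodule.mem_map_of_mem (h2 n he)))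
  have := h hmem d hd
  rw [hkey] at this
  exact hφd ((hx' _ (proj_mem n d)).symm.trans this)

section Positive

variable (hpos : ∀ n : ℤ, n < 0 → 𝒜 n = ⊥) (h0 : 𝒜 0 = Submodule.span k {(1 : R)})

/-- Homogeneous submodule of lowest components. -/
def initialSub (N : Submodule R D) : Submodule R D where
  carrier := {d | ∀ g, ∃ e ∈ N, e ∈ geq 𝒜 𝒟 hpos g ∧ proj 𝒟 g e = proj 𝒟 g d}
  add_mem' {a b} ha hb g := by
    obtain ⟨x, hx, hx', hxa⟩ := ha g; obtain ⟨y, hy, hy', hyb⟩ := hb g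
    exact ⟨x + y, add_mem hx hy, add_mem hx' hy', by rw [map_add, map_add, hxa, hyb]⟩
  zero_mem' g := ⟨0, zero_mem _, zero_mem _, rfl⟩
  smul_mem' r d hd := by
    induction r using DirectSum.Decomposition.inductionOn 𝒜 with
    | zero => intro g; exact ⟨0, zero_mem _, zero_mem _, by simp⟩
    | @homogeneous i a =>
      intro g
      obtain ⟨e, he, he', hed⟩ := hd (g - i)
      refine ⟨(a : R) • e, N.smul_mem _ he, fun h hh => ?_, by rw [proj_smul a.2, proj_smul a.2, hed]⟩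
      rw [proj_smul a.2, he' (h - i) (by omega), smul_zero]
    | add a b ha hb =>
      intro g
      obtain ⟨x, hx, hx', hxa⟩ := ha g; obtain ⟨y, hy, hy', hyb⟩ := hb g
      exact ⟨x + y, add_mem hx hy, add_mem hx' hy', by rw [add_smul, map_add, map_add, hxa, hyb]⟩

theorem isHomogeneous_initialSub (N : Submodule R D) : (initialSub (𝒟 := 𝒟) hpos N).IsHomogeneous 𝒟 := by
  intro g d hd h
  show ∃ e ∈ N, _ ∧ _ = proj 𝒟 h (proj 𝒟 g d)
  by_cases hgh : g = h
  · subst hgh; rw [proj_of_mem (proj_mem g d)]; exact hd g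
  · exact ⟨0, zero_mem _, zero_mem _, by rw [map_zero, proj_of_mem_ne (proj_mem g d) hgh]⟩

theorem initialSub_strictMono {c : ℤ} (hc : ∀ g > c, ∀ x ∈ 𝒟 g, x = 0) :
    StrictMono (initialSub (𝒟 := 𝒟) hpos) := by
  intro N' N hlt
  refine lt_of_le_not_ge (fun d hd g => ?_) fun hle => ?_
  · obtain ⟨e, he, h⟩ := hd g; exact ⟨e, hlt.le he, h⟩
  obtain ⟨d, hdN, hdN'⟩ := SetLike.exists_of_lt hlt
  have key : ∀ j : ℕ, ∀ d ∈ N, d ∈ geq 𝒜 𝒟 hpos (c + 1 - j) → d ∈ N' := by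
    intro j
    induction j with
    | zero =>
      intro d _ hd
      have : d = 0 := eq_zero_of_proj fun g => if h : g ≤ c then hd g (by omega) else hc g (by omega) _ (proj_mem g d)
      rw [this]; exact zero_mem _
    | succ j ih =>
      intro d hd hdg
      set g₀ : ℤ := c + 1 - ((j + 1 : ℕ) : ℤ) with hg₀
      have h1 : proj 𝒟 g₀ d ∈ initialSub (𝒟 := 𝒟) hpos N := by
        intro g
        by_cases hg : g₀ = g
        · subst hg; exact ⟨d, hd, hdg, (proj_of_mem (proj_mem g₀ d)).symm⟩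
        · exact ⟨0, zero_mem _, zero_mem _, by rw [map_zero, proj_of_mem_ne (proj_mem g₀ d) hg]⟩
      obtain ⟨e, he, he', hed⟩ := hle h1 g₀
      rw [proj_of_mem (proj_mem g₀ d)] at hed
      have := ih (d - e) (sub_mem hd (hlt.le he)) fun g hg => by
        rcases lt_or_eq_of_le (show g ≤ g₀ by omega) with h | h
        · rw [map_sub, hdg g h, he' g h, sub_zero]
        · rw [h, map_sub, hed, sub_self]
      simpa using add_mem this he
  obtain ⟨s, hs⟩ := exists_sum_proj (ℳ := 𝒟) d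
  refine hdN' (key ((s.sup fun g => (c + 1 - g).toNat)) d hdN fun g hg => ?_)
  rw [hs, map_sum]
  refine Finset.sum_eq_zero fun i hi => proj_of_mem_ne (proj_mem i d) ?_
  have := Finset.le_sup (f := fun g => (c + 1 - g).toNat) hi
  omega

include hpos h0

theorem isArtinian_dual_of_finite [IsNoetherian R M] (hD : GrSeg.IsGDual R ℳ 𝒟 β) : IsArtinian R D := by
  obtain ⟨c, hc⟩ := exists_lowerBound (ℳ := ℳ) hpos
  have hcD : ∀ g > -c, ∀ d ∈ 𝒟 g, d = 0 := fun g hg d hd =>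
    hD.eq_zero g d hd fun x hx => by rw [hc (-g) (by omega) x hx, map_zero]
  have hfl := isGDual_flip (𝒜 := 𝒜) hD fun n => finiteDimensional_piece h0 (Or.inl inferInstance) n
  have hm : StrictMono fun N : Submodule R D => OrderDual.toDual (perp hD (initialSub (𝒟 := 𝒟) hpos N)) := by
    intro N' N hlt
    have h := initialSub_strictMono hpos hcD hlt
    refine lt_of_le_not_ge (fun x hx d hd => hx d (h.le hd)) fun hle => ?_
    exact h.not_ge (le_of_perp_le (𝒜 := 𝒜) hD hfl (isHomogeneous_initialSub hpos N') hle)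
  exact hm.wellFoundedLT

omit hpos in
theorem finite_dual_of_artinian [IsArtinian R M] (hD : GrSeg.IsGDual R ℳ 𝒟 β) : Module.Finite R D := by
  classical
  have hfl := isGDual_flip (𝒜 := 𝒜) hD fun n => finiteDimensional_piece h0 (Or.inr inferInstance) n
  let S : Set (Submodule R M) := {P | ∃ s : Finset D, (∀ d ∈ s, ∃ g, d ∈ 𝒟 g) ∧ P = perp hD (Submodule.span R s)}
  obtain ⟨-, ⟨s, hs, rfl⟩, hmin⟩ := IsArtinian.set_has_minimal S ⟨_, ∅, by simp, rfl⟩
  refine ⟨⟨s, eq_top_iff.2 fun d _ => ?_⟩⟩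
  suffices ∀ n, proj 𝒟 n d ∈ Submodule.span R (s : Set D) by
    obtain ⟨t, ht⟩ := exists_sum_proj (ℳ := 𝒟) d
    rw [ht]; exact Submodule.sum_mem _ fun n _ => this n
  intro n
  refine le_of_perp_le (𝒜 := 𝒜) hD hfl (isHomogeneous_span (𝒜 := 𝒜) _ hs) ?_
    (Submodule.subset_span (show proj 𝒟 n d ∈ ((insert (proj 𝒟 n d) s : Finset D) : Set D) by simp))
  have hle : perp hD (Submodule.span R ((insert (proj 𝒟 n d) s : Finset D) : Set D)) ≤ perp hD (Submodule.span R (s : Set D)) :=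
    fun x hx e he => hx e (Submodule.span_mono (by simp) he)
  refine (eq_of_le_of_not_lt hle (hmin _ ⟨_, fun e he => ?_, rfl⟩)).ge
  rcases Finset.mem_insert.1 he with rfl | he
  · exact ⟨n, proj_mem n d⟩
  · exact hs e he

end Positive

section Maps

variable {N : Type u} [AddCommGroup N] [Module R N] {τN : Type u} [SetLike τN N] [AddSubgroupClass τN N]
  {𝒩 : ℤ → τN} [DirectSum.Decomposition 𝒩]

omit [Module k M] [IsScalarTower k R M] [SetLike.GradedSMul 𝒜 ℳ] in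
theorem map_proj {f : M →ₗ[R] N} (hf : ∀ g, ∀ x ∈ ℳ g, f x ∈ 𝒩 g) (g : ℤ) (x : M) :
    f (proj ℳ g x) = proj 𝒩 g (f x) := by
  induction x using DirectSum.Decomposition.inductionOn ℳ with
  | zero => simp
  | @homogeneous i m =>
    by_cases h : i = g
    · subst h; rw [proj_of_mem m.2, proj_of_mem (hf i m m.2)]
    · rw [proj_of_mem_ne m.2 h, proj_of_mem_ne (hf i m m.2) h, map_zero]
  | add a b ha hb => rw [map_add, map_add, map_add, map_add, ha, hb]

end Maps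

end Groth.GrDualH
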